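import Groth.Prelude.Def_GLin
import Groth.Agent.Comodule.Sub
import Groth.Agent.Comodule.SubStruct
import Groth.Agent.PropActLib.Alg
import Groth.Agent.HopfGr.Cartier
import Mathlib

/-!
# An equivariant form of Zariski's Main Theorem
-/

set_option autoImplicit false
set_option backward.isDefEq.respectTransparency false
set_option backward.isDefEq.respectTransparency.types false

noncomputable section

universe u

open TensorProduct WithConv AlgebraicGeometry CategoryTheory

namespace Groth.Agent.EqZMT

open Groth.Agent.Comodule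

/-- A ring map inducing isomorphisms after inverting enough elements is an open immersion on spectra. -/
theorem isOpenImmersion_of_away {B R : Type u} [CommRing B] [CommRing R] (φ : B →+* R) (hφ : Function.Injective φ)
    (h : ∀ p : Ideal R, p.IsPrime → ∃ r : B, φ r ∉ p ∧ ∀ x : R, ∃ (m : ℕ) (b : B), φ b = φ r ^ m * x) :
    IsOpenImmersion (Spec.map (CommRingCat.ofHom φ)) := by
  have key : ∀ p q : PrimeSpectrum R, PrimeSpectrum.comap φ p = PrimeSpectrum.comap φ q →
      p.asIdeal ≤ q.asIdeal := by
    intro p q e x hx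
    obtain ⟨r, hr, H⟩ := h p.asIdeal p.isPrime
    obtain ⟨m, b, hb⟩ := H x
    have e' : p.asIdeal.comap φ = q.asIdeal.comap φ := congrArg PrimeSpectrum.asIdeal e
    have hrq : φ r ∉ q.asIdeal := fun hh => hr (show r ∈ p.asIdeal.comap φ from e' ▸ hh)
    have hb' : b ∈ p.asIdeal.comap φ := by
      rw [Ideal.mem_comap, hb]
      exact Ideal.mul_mem_left _ _ hx
    rw [e', Ideal.mem_comap, hb] at hb'
    exact (q.isPrime.mem_or_mem hb').resolve_left fun hh => hrq (q.isPrime.mem_of_pow_mem m hh)
  refine IsOpenImmersion.of_forall_source_exists _ ?_ ?_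
  · intro x y e
    exact PrimeSpectrum.ext (le_antisymm (key x y e) (key y x e.symm))
  · intro x
    obtain ⟨r, hr, H⟩ := h x.asIdeal x.isPrime
    refine ⟨Spec (CommRingCat.of (Localization.Away (φ r))),
      Spec.map (CommRingCat.ofHom (algebraMap R (Localization.Away (φ r)))), inferInstance, ?_, ?_⟩
    · show x ∈ Set.range (PrimeSpectrum.comap (algebraMap R (Localization.Away (φ r))))
      rw [PrimeSpectrum.localization_away_comap_range (Localization.Away (φ r)) (φ r)]
      exact hr
    · have hbij : Function.Bijective (Localization.awayMap φ r) := by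
        refine ⟨IsLocalization.map_injective_of_injective _ _ _ hφ, fun z => ?_⟩
        obtain ⟨x, ⟨_, n, rfl⟩, rfl⟩ := IsLocalization.exists_mk'_eq (Submonoid.powers (φ r)) z
        obtain ⟨m, b, hb⟩ := H x
        refine ⟨IsLocalization.mk' _ b (⟨r ^ (m + n), m + n, rfl⟩ : Submonoid.powers r), ?_⟩
        simp only [Localization.awayMap, IsLocalization.Away.map, IsLocalization.map_mk']
        rw [IsLocalization.mk'_eq_iff_eq]
        congr 1
        simp only [map_pow, hb]
        ring
      have : IsIso (CommRingCat.ofHom (Localization.awayMap φ r)) :=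
        (ConcreteCategory.isIso_iff_bijective _).2 hbij
      have hc : CommRingCat.ofHom φ ≫ CommRingCat.ofHom (algebraMap R (Localization.Away (φ r))) =
          CommRingCat.ofHom (algebraMap B (Localization.Away r)) ≫ CommRingCat.ofHom (Localization.awayMap φ r) := by
        rw [← CommRingCat.ofHom_comp, ← CommRingCat.ofHom_comp]
        congr 1
        ext b
        simp [Localization.awayMap, IsLocalization.Away.map, IsLocalization.map_eq]
      rw [← Spec.map_comp, hc, Spec.map_comp]
      infer_instance

section

variable (k : Type u) [Field k] (A : Type u) [CommRing A] [HopfAlgebra k A]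
variable {R : Type u} [CommRing R] [Algebra k R] [HopfRep.Comod k A R] [GLin.IsCoactAlg k A R]

/-- A translation by a rational point of the group. -/
def transl (g : A →ₐ[k] k) : R →ₐ[k] R :=
  ((Algebra.TensorProduct.rid k k R).toAlgHom.comp
    (Algebra.TensorProduct.map (AlgHom.id k R) g)).comp (GLin.coactAlgHom k A R)

omit [GLin.IsCoactAlg k A R] in
theorem rid_map_eq_rcon (g : A →ₐ[k] k) (z : R ⊗[k] A) :
    Algebra.TensorProduct.rid k k R (Algebra.TensorProduct.map (AlgHom.id k R) g z) = rcon g.toLinearMap z := by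
  induction z with
  | zero => simp
  | add y z hy hz => simp only [map_add, hy, hz]
  | tmul x a => simp [rcon]

theorem transl_apply (g : A →ₐ[k] k) (x : R) :
    transl k A g x = rcon g.toLinearMap (HopfRep.Comod.coact (k := k) (A := A) x) :=
  rid_map_eq_rcon k A g _

omit [HopfRep.Comod k A R] [GLin.IsCoactAlg k A R] in
theorem map_val_id_apply (P : Subalgebra k R) (y : P ⊗[k] A) :
    Algebra.TensorProduct.map P.val (AlgHom.id k A) y =
      (Subalgebra.toSubmodule P).subtype.rTensor A y := by
  induction y with
  | zero => simp only [map_zero]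
  | add y z hy hz => simp only [map_add, hy, hz]
  | tmul x a => rfl

omit [HopfRep.Comod k A R] [GLin.IsCoactAlg k A R] in
theorem map_val_id_injective (P : Subalgebra k R) :
    Function.Injective (Algebra.TensorProduct.map P.val (AlgHom.id k A)) := by
  intro a b e
  rw [map_val_id_apply, map_val_id_apply] at e
  exact Module.Flat.rTensor_preserves_injective_linearMap _ (Subalgebra.toSubmodule P).injective_subtype e

variable [IsAlgClosed k] [CharZero k] [Algebra.FiniteType k A]

/-- A subspace stable under the rational points of the group is a subcomodule. -/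
theorem isSubcomod_of_transl (P : Submodule k R)
    (h : ∀ (g : A →ₐ[k] k) (x : R), x ∈ P → transl k A g x ∈ P) :
    HopfRep.IsSubcomod (k := k) (A := A) P := by
  haveI : IsReduced A := HopfGr.isReduced_charZero (k := k)
  haveI : IsReduced (k ⊗[k] A) :=
    isReduced_of_injective (Algebra.TensorProduct.lid k A).toRingEquiv.toRingHom
      (Algebra.TensorProduct.lid k A).injective
  intro x hx
  obtain ⟨ι, hι, b, c, ψ, hz, -, hc⟩ := PropAct.exists_decomp (HopfRep.Comod.coact (k := k) (A := A) x)
  classical
  let L : (ι → k) →ₗ[k] R := Fintype.linearCombination k b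
  have hL : Submodule.span k (Set.range fun g : A →ₐ[k] k => fun i => g (c i)) ≤ P.comap L := by
    rw [Submodule.span_le]
    rintro _ ⟨g, rfl⟩
    show L _ ∈ P
    have := h g x hx
    rw [transl_apply, hz, map_sum] at this
    simpa [L, Fintype.linearCombination_apply, rcon] using this
  rw [PropAct.span_values (k := k) (A := A) k hc] at hL
  have hb : ∀ i, b i ∈ P := fun i => by
    have := hL (Submodule.mem_top (x := Pi.single i (1 : k)))
    simpa [L, Fintype.linearCombination_apply, Pi.single_apply] using this
  rw [hz]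
  exact Submodule.sum_mem _ fun i _ => ⟨(⟨b i, hb i⟩ : P) ⊗ₜ c i, by simp⟩

variable {S : Type u} [CommRing S] [Algebra k S] [Algebra.FiniteType k S] [HopfRep.Comod k A S]
  [GLin.IsCoactAlg k A S] [Algebra.FiniteType k R] [Algebra S R] [IsScalarTower k S R]

/-- The equivariant factorisation of a quasi-finite morphism. -/
theorem exists_factorization [Algebra.QuasiFinite S R]
    (hequiv : ∀ s : S, HopfRep.Comod.coact (k := k) (A := A) (algebraMap S R s) =
      Algebra.TensorProduct.map (IsScalarTower.toAlgHom k S R) (AlgHom.id k A)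
        (HopfRep.Comod.coact (k := k) (A := A) s)) :
    ∃ (B : Type u) (_ : CommRing B) (_ : Algebra k B) (_ : HopfRep.Comod k A B) (_ : GLin.IsCoactAlg k A B),
      Algebra.FiniteType k B ∧
      ∃ (ψ : S →ₐ[k] B) (i : B →ₐ[k] R),
        (∀ s : S, HopfRep.Comod.coact (k := k) (A := A) (ψ s) =
        Algebra.TensorProduct.map ψ (AlgHom.id k A) (HopfRep.Comod.coact (k := k) (A := A) s)) ∧
        (∀ s : B, HopfRep.Comod.coact (k := k) (A := A) (i s) =
        Algebra.TensorProduct.map i (AlgHom.id k A) (HopfRep.Comod.coact (k := k) (A := A) s)) ∧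
        i.comp ψ = IsScalarTower.toAlgHom k S R ∧ ψ.toRingHom.Finite ∧
        IsOpenImmersion (Spec.map (CommRingCat.ofHom i.toRingHom)) := by
  classical
  haveI : Algebra.FiniteType S R := Algebra.FiniteType.of_restrictScalars_finiteType k S R
  obtain ⟨T, hT⟩ := Algebra.FiniteType.out (R := k) (A := R)
  -- the integral closure is stable
  let C : Submodule k R := Subalgebra.toSubmodule ((integralClosure S R).restrictScalars k)
  have hC : HopfRep.IsSubcomod (k := k) (A := A) C := by
    refine isSubcomod_of_transl k A C fun g x hx => ?_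
    have hx' : IsIntegral S x := hx
    show IsIntegral S (transl k A g x)
    refine IsIntegral.map_of_comp_eq (transl k A g : S →ₐ[k] S).toRingHom (transl k A g).toRingHom ?_ hx'
    ext s
    show algebraMap S R (transl k A g s) = transl k A g (algebraMap S R s)
    rw [transl_apply, transl_apply, hequiv]
    induction HopfRep.Comod.coact (k := k) (A := A) s with
    | zero => simp
    | add y z hy hz => simp only [map_add, hy, hz]
    | tmul a b => simp [rcon, Algebra.smul_def, IsScalarTower.algebraMap_apply k S R]
  -- local data from Zariski's main theorem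
  have hZ : ∀ p : PrimeSpectrum R, ∃ r : R, r ∉ p.asIdeal ∧ r ∈ C ∧ ∀ x : R, ∃ m : ℕ, r ^ m * x ∈ C := fun p => by
    obtain ⟨r, hr, h1, h2⟩ :=
      Algebra.zariskisMainProperty_iff.mp (Algebra.ZariskisMainProperty.of_finiteType (R := S) p.asIdeal)
    exact ⟨r, hr, h1, h2⟩
  choose r hr hrC m hm using hZ
  obtain ⟨t, ht⟩ := IsCompact.elim_finite_subcover isCompact_univ
    (fun p : PrimeSpectrum R => (PrimeSpectrum.basicOpen (r p) : Set (PrimeSpectrum R)))
    (fun p => (PrimeSpectrum.basicOpen (r p)).isOpen) fun p _ => Set.mem_iUnion.2 ⟨p, hr p⟩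
  let G : Finset R := t.image r ∪ (t ×ˢ T).image fun z => r z.1 ^ m z.1 z.2 * z.2
  have hG : ∀ x ∈ G, x ∈ C := by
    intro x hx
    simp only [G, Finset.mem_union, Finset.mem_image] at hx
    rcases hx with ⟨p, -, rfl⟩ | ⟨z, -, rfl⟩
    exacts [hrC p, hm _ _]
  -- a finite-dimensional stable generating space
  let W : Submodule k R := (Submodule.span (WithConv (A →ₗ[k] k)) (G : Set R)).restrictScalars k
  have hW : HopfRep.IsSubcomod (k := k) (A := A) W := isSubcomod_restrictScalars _
  have hGW : (G : Set R) ⊆ W := fun x hx => Submodule.subset_span hx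
  have hWC : W ≤ C := fun x hx =>
    (Submodule.span_le.2 (fun y hy => hG y hy) :
      Submodule.span (WithConv (A →ₗ[k] k)) (G : Set R) ≤ toDual C hC) hx
  haveI : Module.Finite k W := finite_span_of_finite G.finite_toSet
  obtain ⟨Tw, hTw⟩ := (Module.Finite.iff_fg.1 ‹_› : W.FG)
  have hTwW : (Tw : Set R) ⊆ W := hTw ▸ Submodule.subset_span
  let Bs : Subalgebra S R := Algebra.adjoin S (Tw : Set R)
  haveI : Module.Finite S Bs := ⟨(Submodule.fg_top _).2
    (fg_adjoin_of_finite Tw.finite_toSet fun x hx => hWC (hTwW hx))⟩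
  let B : Subalgebra k R := Bs.restrictScalars k
  have hWB : ∀ x ∈ W, x ∈ B := fun x hx =>
    (hTw ▸ Submodule.span_le.2 fun y hy => Algebra.subset_adjoin hy : W ≤ Subalgebra.toSubmodule B) hx
  have hSB : ∀ s : S, algebraMap S R s ∈ B := fun s => Bs.algebraMap_mem s
  let ψ : S →ₐ[k] B := (IsScalarTower.toAlgHom k S R).codRestrict B hSB
  have hval : B.val.comp ψ = IsScalarTower.toAlgHom k S R := AlgHom.ext fun s => rfl
  have hmap : ∀ z : S ⊗[k] A, Algebra.TensorProduct.map B.val (AlgHom.id k A)
      (Algebra.TensorProduct.map ψ (AlgHom.id k A) z) =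
        Algebra.TensorProduct.map (IsScalarTower.toAlgHom k S R) (AlgHom.id k A) z := fun z => by
    rw [← hval, ← AlgHom.comp_apply, ← Algebra.TensorProduct.map_comp, AlgHom.comp_id]
  have hsub : HopfRep.IsSubcomod (k := k) (A := A) (Subalgebra.toSubmodule B) := by
    intro x hx
    let M : Subalgebra k R :=
      (Algebra.TensorProduct.map B.val (AlgHom.id k A)).range.comap (GLin.coactAlgHom k A R)
    have hmem : ∀ y ∈ Bs, y ∈ M := by
      intro y hy
      induction hy using Algebra.adjoin_induction with
      | mem w hw =>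
        have hw' : HopfRep.Comod.coact (k := k) (A := A) w ∈
            LinearMap.range ((Subalgebra.toSubmodule B).subtype.rTensor A) :=
          mem_range_rTensor_iff.2 fun f => hWB _ (isSubcomod_iff.1 hW (toConv f) w (hTwW hw))
        obtain ⟨z, hz⟩ := hw'
        exact ⟨z, (map_val_id_apply k A B z).trans hz⟩
      | algebraMap s =>
        exact ⟨Algebra.TensorProduct.map ψ (AlgHom.id k A) (HopfRep.Comod.coact (k := k) (A := A) s),
          (hmap _).trans (hequiv s).symm⟩
      | add x y _ _ hx hy => exact M.add_mem hx hy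
      | mul x y _ _ hx hy => exact M.mul_mem hx hy
    obtain ⟨z, hz⟩ := hmem x hx
    exact ⟨z, (map_val_id_apply k A B z).symm.trans hz⟩
  letI cB : HopfRep.Comod k A B := subComod (Subalgebra.toSubmodule B) hsub
  have hco : ∀ x : B, Algebra.TensorProduct.map B.val (AlgHom.id k A) (HopfRep.Comod.coact (k := k) (A := A) x) =
      HopfRep.Comod.coact (k := k) (A := A) (x : R) := fun x =>
    (map_val_id_apply k A B _).trans (rTensor_subCoact (Subalgebra.toSubmodule B) hsub x)
  haveI : GLin.IsCoactAlg k A B :=
    { coact_one := map_val_id_injective k A B (by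
        rw [hco, map_one]; exact GLin.IsCoactAlg.coact_one (k := k) (A := A) (R := R))
      coact_mul := fun f g => map_val_id_injective k A B (by
        rw [hco, map_mul, hco, hco]; exact GLin.IsCoactAlg.coact_mul (k := k) (A := A) (f : R) g) }
  have hfin : ψ.toRingHom.Finite := (RingHom.finite_algebraMap (A := S) (B := Bs)).2 ‹Module.Finite S Bs›
  refine ⟨B, inferInstance, inferInstance, cB, inferInstance, ?_, ψ, B.val, fun s => ?_, fun x => (hco x).symm,
    hval, hfin, ?_⟩
  · letI : Algebra S B := ψ.toRingHom.toAlgebra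
    haveI : IsScalarTower k S B := IsScalarTower.of_algebraMap_eq fun c => (ψ.commutes c).symm
    haveI : Module.Finite S B := RingHom.finite_algebraMap.1 hfin
    exact Algebra.FiniteType.trans (S := S) inferInstance inferInstance
  · refine map_val_id_injective k A B ?_
    rw [hco, hmap]
    exact hequiv s
  · refine isOpenImmersion_of_away B.val.toRingHom Subtype.val_injective fun p hp => ?_
    obtain ⟨q, hq, hq'⟩ : ∃ q ∈ t, r q ∉ p := by
      simpa using ht (Set.mem_univ (⟨p, hp⟩ : PrimeSpectrum R))
    have hrB : r q ∈ B := hWB _ (hGW (Finset.mem_union_left _ (Finset.mem_image_of_mem r hq)))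
    refine ⟨⟨r q, hrB⟩, hq', fun x => ?_⟩
    suffices ∃ n, r q ^ n * x ∈ B by
      obtain ⟨n, hn⟩ := this
      exact ⟨n, ⟨_, hn⟩, rfl⟩
    have hx : x ∈ Algebra.adjoin k (T : Set R) := hT ▸ Algebra.mem_top
    induction hx using Algebra.adjoin_induction with
    | mem y hy =>
      exact ⟨_, hWB _ (hGW (Finset.mem_union_right _ (Finset.mem_image.2 ⟨(q, y), Finset.mk_mem_product hq hy, rfl⟩)))⟩
    | algebraMap c => exact ⟨0, by simpa using B.algebraMap_mem c⟩
    | add x y _ _ hx hy =>
      obtain ⟨a, ha⟩ := hx
      obtain ⟨b, hb⟩ := hy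
      refine ⟨a + b, ?_⟩
      rw [show r q ^ (a + b) * (x + y) = r q ^ b * (r q ^ a * x) + r q ^ a * (r q ^ b * y) by ring]
      exact B.add_mem (B.mul_mem (B.pow_mem hrB b) ha) (B.mul_mem (B.pow_mem hrB a) hb)
    | mul x y _ _ hx hy =>
      obtain ⟨a, ha⟩ := hx
      obtain ⟨b, hb⟩ := hy
      refine ⟨a + b, ?_⟩
      rw [show r q ^ (a + b) * (x * y) = (r q ^ a * x) * (r q ^ b * y) by ring]
      exact B.mul_mem ha hb

end

end Groth.Agent.EqZMT
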